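import Cfsg.Agent.Known.SylFix.General
import Cfsg.Agent.Known.SLBorelPair
import Cfsg.Agent.Known.PolarBN.Unitary
import Cfsg.Agent.Known.PolarBN.Orthogonal
import Cfsg.Agent.Steinberg.Chev
import Cfsg.Agent.Chev.Tw.Inst
import Cfsg.Agent.Chev.Ree.Tits
import Cfsg.Agent.Chev.Ree.F4.BN
import Cfsg.Agent.Suz.Lie
import Cfsg.Agent.Suz.PrincipalSeries
import Cfsg.Agent.Known.LieOrderBound
import Cfsg.Prelude.Def_LieTypeChar

/-! The groups of Lie type all satisfy the rigidity of a Sylow subgroup of the characteristic. -/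

set_option autoImplicit false
set_option linter.style.haveILetI false

namespace Cfsg.Lib.Known.SylFix

open Cfsg.Lib.BN Cfsg.Lib.Steinberg

universe u v w

/-- Coprime automorphisms fixing a Sylow `p`-subgroup are trivial, if the group is simple. -/
structure Rigid (p : ℕ) (G : Type u) [Group G] : Prop where
  /-- The rigidity. -/
  out : ∀ [Finite G] [IsSimpleGroup G], p ∣ Nat.card G → ∀ (α : MulAut G), ¬ p ∣ orderOf α → ∀ W : Sylow p G,
    (∀ x ∈ (W : Subgroup G), α x = x) → α = 1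

theorem Rigid.of_split {H : Type u} [Group H] [Finite H] {G : Type v} [Group G] {P : Cfsg.BNPair H}
    {U : Subgroup H} {p : ℕ} (S : Split P U p) (f : H →* G) (hf : Function.Surjective f) (hker : f.ker ≤ P.B) :
    Rigid p G := ⟨fun hp α hα W hW => eq_one S hp hf hker α hα W hW⟩

theorem Rigid.of_split_center {H : Type u} [Group H] [Finite H] {P : Cfsg.BNPair H}
    {U : Subgroup H} {p : ℕ} (S : Split P U p) : Rigid p (H ⧸ Subgroup.center H) :=
  Rigid.of_split S (QuotientGroup.mk' _) (QuotientGroup.mk'_surjective _)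
    (by rw [QuotientGroup.ker_mk']; exact Cfsg.Lib.PolarBN.center_le_B P)

theorem Rigid.of_split_self {H : Type u} [Group H] [Finite H] {P : Cfsg.BNPair H}
    {U : Subgroup H} {p : ℕ} (S : Split P U p) : Rigid p H :=
  Rigid.of_split S (MonoidHom.id H) Function.surjective_id
    (by rw [(MonoidHom.ker_eq_bot_iff _).2 Function.injective_id]; exact bot_le)

theorem Rigid.of_equiv {H : Type u} [Group H] {G : Type v} [Group G] {p : ℕ} (hp' : p.Prime) (e : G ≃* H)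
    (h : Rigid p H) : Rigid p G := by
  refine ⟨@fun _ _ hp α hα W hW => ?_⟩
  have : Finite H := Finite.of_equiv G e.toEquiv
  have : Nontrivial H := e.toEquiv.symm.nontrivial
  have : IsSimpleGroup H := IsSimpleGroup.isSimpleGroup_of_surjective e.toMonoidHom e.surjective
  have : Fact p.Prime := ⟨hp'⟩
  let T : MulAut G ≃* MulAut H := MulAut.congr e
  have h1 := h.out (by rwa [← Nat.card_congr e.toEquiv]) (T α) (by rwa [MulEquiv.orderOf_eq])
    (W.mapSurjective (f := e.toMonoidHom) e.surjective) fun x hx => by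
      replace hx : x ∈ (W : Subgroup G).map e.toMonoidHom := hx
      obtain ⟨y, hy, rfl⟩ := hx
      show e (α (e.symm (e y))) = e y
      rw [e.symm_apply_apply, hW y hy]
  exact T.injective (h1.trans (map_one T).symm)

end Cfsg.Lib.Known.SylFix

namespace Cfsg.Lib.PolarBN

open Cfsg.Lib.Classical Matrix
open Cfsg.Lib.Known.SylFix

universe u v w

section
variable {G : Type w} [Group G] [Finite G] {F : Type u} [Field F] {V : Type v} [AddCommGroup V] [Module F V]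
variable {m : ℕ}

theorem Polar.rigid (P : Polar G F V m) (p : ℕ) [Fact p.Prime] [CharP F p]
    (hmid : ∀ g, (∀ a, P.ρ g (P.vec a) = P.vec a) → g ^ p = 1 → g = 1) :
    Rigid p (G ⧸ Subgroup.center G) := Rigid.of_split_center (P.split p hmid)

end

theorem rigid_omega_odd {F : Type u} [Field F] [Fintype F] (p : ℕ) [Fact p.Prime] [CharP F p]
    (hodd : Odd (Fintype.card F)) {m : ℕ} (hm : 2 ≤ m) : Rigid p (Cfsg.POmega F (Cfsg.quadFormOdd m F)) := by
  rw [← Refl.oddForm_coe]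
  have h2 := Refl.two_ne_zero_of_odd hodd
  set Q := Refl.oddForm m F with hQdef
  have hW : ∀ x, (∀ i, QuadraticMap.polar (⇑Q) x (Pi.single (Sum.inr (Sum.inl i)) 1) = 0 ∧
      QuadraticMap.polar (⇑Q) x (Pi.single (Sum.inr (Sum.inr i)) 1) = 0) →
      ∀ j, x (Sum.inr j) = 0 := by
    intro x hx j
    rcases j with j | j
    · rw [← (odd_frame x j).2]; exact (hx j).2
    · rw [← (odd_frame x j).1]; exact (hx j).1
  refine (orthPolar Q (Refl.oddForm_nondegenerate h2 m) (by simp; omega)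
    (fun i => Pi.single (Sum.inr (Sum.inl i)) 1) (fun i => Pi.single (Sum.inr (Sum.inr i)) 1)
    (fun i => by simp [hQdef, Refl.oddForm_coe, Cfsg.quadFormOdd, Pi.single_apply])
    (fun i => by simp [hQdef, Refl.oddForm_coe, Cfsg.quadFormOdd, Pi.single_apply])
    (fun i j => by rw [(odd_frame _ j).1]; simp)
    (fun i j => by rw [(odd_frame _ j).2]; simp)
    (fun i j => by rw [(odd_frame _ j).2]; simp [Pi.single_apply, eq_comm])
    (fun x hx hxx => ?_) False (fun h => h.elim) (fun h => h.elim)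
    (fun _ => ⟨Pi.single (Sum.inl ()) 1, fun i => ⟨by rw [(odd_frame _ i).1]; simp, by rw [(odd_frame _ i).2]; simp⟩,
      by simp [hQdef, Refl.oddForm_coe, Cfsg.quadFormOdd]⟩) (fun h => h.elim) (by omega)).rigid p
    (Polar.mid_of_line _ p (w₀ := Pi.single (Sum.inl ()) 1) fun w hw => ⟨w (Sum.inl ()), ?_⟩)
  · funext j
    rcases j with j | j
    · simp only [hQdef, Refl.oddForm_coe, Cfsg.quadFormOdd, hW x hx, mul_zero, Finset.sum_const_zero,
        add_zero] at hxx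
      exact pow_eq_zero_iff two_ne_zero |>.1 hxx
    · exact hW x hx j
  · funext j
    rcases j with j | j
    · simp
    · simp [hW w hw j]

theorem rigid_omega_plus {F : Type u} [Field F] [Fintype F] (p : ℕ) [Fact p.Prime] [CharP F p]
    {m : ℕ} (hm : 3 ≤ m) : Rigid p (Cfsg.POmega F (Cfsg.quadFormPlus m F)) := by
  rw [show Cfsg.quadFormPlus m F = ⇑(HypQuad.plusForm m F) from (funext (HypQuad.plusForm_apply m)).symm]
  set Q := HypQuad.plusForm m F with hQdef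
  have hQ : (QuadraticMap.polarBilin Q).Nondegenerate := HypQuad.plusForm_nondegenerate m
  have he : ∀ i : Fin m, Q (Pi.single (Sum.inl i) 1) = 0 := fun i => by
    simp [hQdef, HypQuad.plusForm_apply, Cfsg.quadFormPlus, Pi.single_apply]
  have hee : ∀ i j : Fin m, QuadraticMap.polar (⇑Q) (Pi.single (Sum.inl i) 1) (Pi.single (Sum.inl j) 1) = 0 :=
    fun i j => by rw [(plus_frame _ j).1]; simp
  have hef : ∀ i j : Fin m, QuadraticMap.polar (⇑Q) (Pi.single (Sum.inl i) 1) (Pi.single (Sum.inr j) 1) =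
      if i = j then 1 else 0 := fun i j => by rw [(plus_frame _ j).2]; simp [Pi.single_apply, eq_comm]
  have hW : ∀ x, (∀ i, QuadraticMap.polar (⇑Q) x (Pi.single (Sum.inl i) 1) = 0 ∧
      QuadraticMap.polar (⇑Q) x (Pi.single (Sum.inr i) 1) = 0) → x = 0 := by
    intro x hx
    funext j
    rcases j with j | j
    · rw [← (plus_frame x j).2]; exact (hx j).2
    · rw [← (plus_frame x j).1]; exact (hx j).1
  refine (orthPolar Q hQ (by simp; omega)
    (fun i => Pi.single (Sum.inl i) 1) (fun i => Pi.single (Sum.inr i) 1) he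
    (fun i => by simp [hQdef, HypQuad.plusForm_apply, Cfsg.quadFormPlus, Pi.single_apply])
    hee (fun i j => by rw [(plus_frame _ j).2]; simp) hef
    (fun x hx _ => hW x hx) True (fun _ => by omega) (fun _ => hW) (fun h => absurd trivial h)
    (fun _ g hgΩ hg i _ => last_of_parity Q hQ (by simp; omega) _ (fun i => Pi.single (Sum.inr i) 1) he hee hef g
      hgΩ hg i) (by omega)).rigid p
    (Polar.mid_of_line _ p (w₀ := 0) fun w hw => ⟨0, ?_⟩)
  rw [zero_smul]; exact (hW w hw).symm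

theorem rigid_omega_minus {F : Type u} [Field F] [Fintype F] (p : ℕ) [Fact p.Prime] [CharP F p]
    {m : ℕ} (hm : 2 ≤ m) {a b : F}
    (hab : ∀ z₁ z₂ : F, z₁ ^ 2 + a * z₁ * z₂ + b * z₂ ^ 2 = 0 → z₁ = 0 ∧ z₂ = 0) :
    Rigid p (Cfsg.POmega F (Cfsg.quadFormMinus m F a b)) := by
  rw [← Refl.minusForm_coe]
  set Q := Refl.minusForm m F a b with hQdef
  have hQ : (QuadraticMap.polarBilin Q).Nondegenerate := Refl.minusForm_nondegenerate' m hab
  have hW : ∀ x, (∀ i, QuadraticMap.polar (⇑Q) x (Pi.single (Sum.inl (Sum.inl i)) 1) = 0 ∧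
      QuadraticMap.polar (⇑Q) x (Pi.single (Sum.inl (Sum.inr i)) 1) = 0) →
      ∀ j, x (Sum.inl j) = 0 := by
    intro x hx j
    rcases j with j | j
    · rw [← (minus_frame a b x j).2]; exact (hx j).2
    · rw [← (minus_frame a b x j).1]; exact (hx j).1
  have hani : ∀ x, (∀ i, QuadraticMap.polar (⇑Q) x (Pi.single (Sum.inl (Sum.inl i)) 1) = 0 ∧
      QuadraticMap.polar (⇑Q) x (Pi.single (Sum.inl (Sum.inr i)) 1) = 0) → Q x = 0 → x = 0 := by
    intro x hx hxx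
    have h := hab (x (Sum.inr 0)) (x (Sum.inr 1)) (by
      simpa [hQdef, Refl.minusForm_coe, Cfsg.quadFormMinus, hW x hx] using hxx)
    funext j
    rcases j with j | j
    · exact hW x hx j
    · fin_cases j
      exacts [h.1, h.2]
  set P := orthPolar Q hQ (by simp; omega)
    (fun i => Pi.single (Sum.inl (Sum.inl i)) 1) (fun i => Pi.single (Sum.inl (Sum.inr i)) 1)
    (fun i => by simp [hQdef, Refl.minusForm_coe, Cfsg.quadFormMinus, Pi.single_apply])
    (fun i => by simp [hQdef, Refl.minusForm_coe, Cfsg.quadFormMinus, Pi.single_apply])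
    (fun i j => by rw [(minus_frame a b _ j).1]; simp)
    (fun i j => by rw [(minus_frame a b _ j).2]; simp)
    (fun i j => by rw [(minus_frame a b _ j).2]; simp [Pi.single_apply, eq_comm])
    hani False (fun h => h.elim) (fun h => h.elim)
    (fun _ => ⟨Pi.single (Sum.inr 0) 1,
      fun i => ⟨by rw [(minus_frame a b _ i).1]; simp, by rw [(minus_frame a b _ i).2]; simp⟩,
      by simp [hQdef, Refl.minusForm_coe, Cfsg.quadFormMinus]⟩) (fun h => h.elim) (by omega) with hP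
  refine P.rigid p (mid_of_plane Q hQ P rfl (fun g y => Matrix.toLin'_apply _ y) p hani
    fun w u hw hu hw0 hne y hy => ?_)
  set d := w (Sum.inr 0) * u (Sum.inr 1) - w (Sum.inr 1) * u (Sum.inr 0) with hd
  have hext : ∀ s t : (Fin m ⊕ Fin m) ⊕ Fin 2 → F, (∀ j, s (Sum.inl j) = 0) → (∀ j, t (Sum.inl j) = 0) →
      s (Sum.inr 0) = t (Sum.inr 0) → s (Sum.inr 1) = t (Sum.inr 1) → s = t := by
    intro s t hs ht h0 h1
    funext j
    rcases j with j | j
    · rw [hs, ht]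
    · fin_cases j
      exacts [h0, h1]
  have hw' := hW w hw
  have hu' := hW u hu
  have hd0 : d ≠ 0 := by
    intro h
    by_cases h0 : w (Sum.inr 0) = 0
    · have h1 : w (Sum.inr 1) ≠ 0 := fun e => hw0 (hext w 0 hw' (fun j => rfl) h0 e)
      refine hne (u (Sum.inr 1) / w (Sum.inr 1)) (hext _ _ (fun j => by simp [hw' j]) hu' ?_ ?_)
      · rw [hd, h0, zero_mul, zero_sub, neg_eq_zero, mul_eq_zero] at h
        simp [h0, h.resolve_left h1]
      · simp [h1]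
    · refine hne (u (Sum.inr 0) / w (Sum.inr 0)) (hext _ _ (fun j => by simp [hw' j]) hu' (by simp [h0]) ?_)
      show u (Sum.inr 0) / w (Sum.inr 0) * w (Sum.inr 1) = u (Sum.inr 1)
      field_simp
      linear_combination -h
  refine ⟨(y (Sum.inr 0) * u (Sum.inr 1) - y (Sum.inr 1) * u (Sum.inr 0)) / d,
    (w (Sum.inr 0) * y (Sum.inr 1) - w (Sum.inr 1) * y (Sum.inr 0)) / d,
    hext _ _ (fun j => by simp [hw' j, hu' j]) (hW y hy) ?_ ?_⟩
  · simp only [Pi.add_apply, Pi.smul_apply, smul_eq_mul]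
    field_simp
    rw [hd]; ring
  · simp only [Pi.add_apply, Pi.smul_apply, smul_eq_mul]
    field_simp
    rw [hd]; ring

/-- `PSp`. -/
theorem rigid_psp {F : Type u} [Field F] [Fintype F] (p : ℕ) [Fact p.Prime] [CharP F p] (m : ℕ) (hm : 1 ≤ m) :
    Rigid p (Cfsg.PSp m F) := by
  refine (spPolar m F hm).rigid p ((spPolar m F hm).mid_of_line p (w₀ := 0) fun w hw => ⟨0, ?_⟩)
  rw [zero_smul]
  exact ((spPolar m F hm).aniso w hw trivial).symm

/-- `PSU`. -/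
theorem rigid_psu {F : Type u} [Field F] [Fintype F] (p : ℕ) [Fact p.Prime] [CharP F p] {n q : ℕ} (hn : 2 ≤ n)
    (hF : Fintype.card F = q ^ 2) : Rigid p (Cfsg.PSU n F q) := by
  haveI : Finite ((Fin n → F) ≃ₗ[F] (Fin n → F)) :=
    Finite.of_injective (fun e => (e : (Fin n → F) → (Fin n → F))) DFunLike.coe_injective
  obtain ⟨θ, z, hθ, hz, hz1⟩ := exists_frame_data hF n
  set P := suPolar hF hn θ z hθ hz hz1 with hP
  have h : Rigid p _ := P.rigid p (P.mid_of_line p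
    (w₀ := Pi.single ⟨n - 1, by omega⟩ 1) fun w hw => ⟨w ⟨n - 1, by omega⟩, ?_⟩)
  · refine Rigid.of_equiv Fact.out ?_ h
    set e := suEquiv n hF
    exact (QuotientGroup.congr _ _ e (by
      ext x
      rw [Subgroup.map_equiv_eq_comap_symm]
      simp only [Subgroup.mem_comap, MonoidHom.coe_coe, Subgroup.mem_center_iff]
      exact ⟨fun h y => e.symm.injective (by rw [map_mul, map_mul]; exact h (e.symm y)),
        fun h y => by simpa using congrArg e.symm (h (e y))⟩)).symm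
  have hz' := pair_zero hF hθ hz1 w hw
  funext l
  by_cases hl : l.val < 2 * (n / 2)
  · rw [hz' l hl]
    by_cases hl' : l = ⟨n - 1, by omega⟩
    · have := hz' l hl; rw [hl'] at this ⊢; simp [this]
    · simp [hl']
  · have hl' : l = ⟨n - 1, by omega⟩ := Fin.ext (by show l.val = n - 1; omega)
    rw [hl']; simp

end Cfsg.Lib.PolarBN

namespace Cfsg.Lib.Known.SylFix

open Cfsg.Lib.BN Cfsg.Lib.Steinberg Cfsg.Lie Cfsg.Lib.Chev
open scoped Pointwise

universe u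

variable {F : Type u} [Field F] [Fintype F] (p : ℕ) [Fact p.Prime] [CharP F p]

omit [Fintype F] in
theorem posUnipotent_pGroup {D : ChevalleyDatum} {C : Cert} [Finite F] (S : Struct D C) :
    IsPGroup p ↥(D.posUnipotent F) := by
  have := Fintype.ofFinite F
  obtain ⟨k, -, hk⟩ := FiniteField.card F p
  exact IsPGroup.of_card (n := k.val * (D.nroots / 2))
    (by rw [S.card_posUnipotent, hk, ← pow_mul])

theorem split_sub {D : ChevalleyDatum} {C : Cert} (S : Struct D C) {G1 : Subgroup (GL D.Idx F)}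
    (P : Cfsg.BNPair ↥G1) (hB : P.B = (D.borelSubgroup F ⊓ G1).subgroupOf G1)
    (hN : P.N = (D.monomialSubgroup F ⊓ G1).subgroupOf G1)
    (hdec : ∀ b ∈ D.borelSubgroup F ⊓ G1, ∃ u ∈ D.posUnipotent F ⊓ G1, ∃ d ∈ D.diagonalSubgroup F, b = u * d) :
    Split P ((D.posUnipotent F).subgroupOf G1) p := by
  have memB : ∀ x : ↥G1, x ∈ P.B ↔ (x : GL D.Idx F) ∈ D.borelSubgroup F := fun x => by
    rw [hB, Subgroup.mem_subgroupOf, Subgroup.mem_inf]; exact ⟨fun h => h.1, fun h => ⟨h, x.2⟩⟩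
  have memN : ∀ x : ↥G1, x ∈ P.N ↔ (x : GL D.Idx F) ∈ D.monomialSubgroup F := fun x => by
    rw [hN, Subgroup.mem_subgroupOf, Subgroup.mem_inf]; exact ⟨fun h => h.1, fun h => ⟨h, x.2⟩⟩
  refine ⟨Fact.out, fun x hx => (memB x).2 (S.B_le_of hx), ?_, ?_, ?_, ?_⟩
  · intro b hb u hu
    obtain ⟨v, hv, d, hd, e⟩ := S.borel_decomp ((memB b).1 hb)
    rw [Subgroup.mem_subgroupOf] at hu ⊢
    have h1 := (Subgroup.mem_normalizer_iff.1 (S.diag_normalises_U hd) (u : GL D.Idx F)).1 hu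
    have h2 := mul_mem (mul_mem hv h1) (inv_mem hv)
    simp only [Subgroup.coe_mul, Subgroup.coe_inv, e]
    convert h2 using 1
    group
  · intro b hb
    obtain ⟨v, hv, d, hd, e⟩ := hdec b (Subgroup.mem_inf.2 ⟨(memB b).1 hb, b.2⟩)
    have hdG : d ∈ G1 := by
      rw [show d = v⁻¹ * b by rw [e]; group]; exact mul_mem (inv_mem hv.2) b.2
    exact ⟨⟨v, hv.2⟩, hv.1, ⟨d, hdG⟩, Subgroup.mem_inf.2 ⟨(memB _).2 (Subgroup.mem_sup_right hd),
      (memN _).2 (Subgroup.mem_sup_left hd)⟩, Subtype.ext e⟩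
  · exact (posUnipotent_pGroup p S).comap_of_injective G1.subtype Subtype.val_injective
  · intro h
    refine card_diag_coprime (F := F) p S (h.trans ?_)
    rw [← Subgroup.card_map_of_injective (K := P.B ⊓ P.N) (f := G1.subtype) Subtype.val_injective]
    refine Subgroup.card_dvd_of_le ?_
    rintro _ ⟨x, hx, rfl⟩
    rw [← S.B_inf_N]
    exact Subgroup.mem_inf.2 ⟨(memB x).1 (Subgroup.mem_inf.1 hx).1, (memN x).1 (Subgroup.mem_inf.1 hx).2⟩

theorem rigid_twE6 {q : ℕ} (hq : IsPrimePow q) (hK : Fintype.card F = q ^ 2) : Rigid p ↥(twistedE6 F q) := by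
  obtain ⟨X, rfl⟩ := Cfsg.Lib.Chev.E6.exists_tw hq hK
  obtain ⟨P, h1, h2, -⟩ := X.exists_bnPair (Cfsg.Lib.Chev.E6.relOK X)
  rw [← Cfsg.Lib.Chev.E6.G1_eq X]
  rw [← X.borel_inf_G1 (Cfsg.Lib.Chev.E6.relOK X)] at h1
  rw [← X.mono_inf_G1 (Cfsg.Lib.Chev.E6.relOK X)] at h2
  refine Rigid.of_split_self (split_sub p X.S P h1 h2 fun b hb => ?_)
  rw [X.borel_inf_G1 (Cfsg.Lib.Chev.E6.relOK X)] at hb
  obtain ⟨u, hu, t, ht, e⟩ := X.B1_decomp hb
  exact ⟨u, hu, t, X.T1_le_diag ht, e⟩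

theorem rigid_twD4 {q : ℕ} (hq : IsPrimePow q) (hK : Fintype.card F = q ^ 3) : Rigid p ↥(twistedD4 F q) := by
  obtain ⟨X, rfl⟩ := Cfsg.Lib.Chev.D4.exists_tw hq hK
  obtain ⟨P, h1, h2, -⟩ := X.exists_bnPair (Cfsg.Lib.Chev.D4.relOK X)
  rw [← Cfsg.Lib.Chev.D4.G1_eq X]
  rw [← X.borel_inf_G1 (Cfsg.Lib.Chev.D4.relOK X)] at h1
  rw [← X.mono_inf_G1 (Cfsg.Lib.Chev.D4.relOK X)] at h2
  refine Rigid.of_split_self (split_sub p X.S P h1 h2 fun b hb => ?_)
  rw [X.borel_inf_G1 (Cfsg.Lib.Chev.D4.relOK X)] at hb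
  obtain ⟨u, hu, t, ht, e⟩ := X.B1_decomp hb
  exact ⟨u, hu, t, X.T1_le_diag ht, e⟩

theorem rigid_2F4 {m : ℕ} (hK : Fintype.card F = 2 ^ (2 * m + 1)) : Rigid p ↥(twistedF4 F (2 ^ m)) := by
  obtain ⟨X, rfl⟩ := Cfsg.Lib.Chev.ReeF.exists_rf hK
  show Rigid p ↥X.G1
  obtain ⟨P, h1, h2, -⟩ := X.exists_BN
  refine Rigid.of_split_self (split_sub p Cfsg.Lib.Chev.ReeF.SF P h1 h2 fun b hb => ?_)
  obtain ⟨hbB, hbG⟩ := Subgroup.mem_inf.1 hb
  obtain ⟨u, hu, d, hd, e⟩ := X.borel_fixed hbB (by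
    have := X.G1_le hbG
    exact this.2)
  exact ⟨u, hu, d, hd.1, e⟩

theorem rigid_2G2 {m : ℕ} (hK : Fintype.card F = 3 ^ (2 * m + 1)) : Rigid p ↥(twistedG2 F (3 ^ m)) := by
  obtain ⟨X, rfl⟩ := Cfsg.Lib.Chev.Ree.exists_ree hK
  show Rigid p ↥X.G1
  obtain ⟨P, h1, h2⟩ := X.exists_BN
  refine Rigid.of_split_self (split_sub p Cfsg.Lib.Chev.Ree.SG P h1 h2 fun b hb => ?_)
  obtain ⟨hbB, hbG⟩ := Subgroup.mem_inf.1 hb
  obtain ⟨t, u, v, s, e⟩ := X.borel_fixed hbB (by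
    have := X.G1_le hbG
    exact this.2)
  exact ⟨_, Subgroup.mem_inf.2 ⟨X.uu_mem_U t u v, X.uu_mem_G1 t u v⟩, _, X.hh_diag s, e⟩

omit [Fact p.Prime] [CharP F p] in
theorem rigid_suz {m : ℕ} (hm : 1 ≤ m) (hK : Fintype.card F = 2 ^ (2 * m + 1)) :
    Rigid 2 ↥(Cfsg.Lie.Sz F (2 ^ (m + 1))) := by
  have Q : Cfsg.Lib.Suz.Par F m := ⟨hm, hK⟩
  refine Rigid.of_equiv Nat.prime_two (Cfsg.Lib.Suz.lieEquiv Q).symm ?_
  have h2 : MulAction.IsMultiplyPretransitive (Cfsg.Sz F m) (Cfsg.suzukiOvoid F m) 2 := by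
    rw [MulAction.is_two_pretransitive_iff]
    intro a b c d hab hcd
    obtain ⟨g, hg, g1, g2⟩ := Cfsg.Lib.Suz.to_inf_zero Q a.2 b.2 fun e => hab (Subtype.ext e)
    obtain ⟨k, hk, k1, k2⟩ := Cfsg.Lib.Suz.to_inf_zero Q c.2 d.2 fun e => hcd (Subtype.ext e)
    refine ⟨⟨k, hk⟩⁻¹ * ⟨g, hg⟩, Subtype.ext ?_, Subtype.ext ?_⟩
    · show (k⁻¹ * g) • a.1 = c.1
      rw [mul_smul, g1, inv_smul_eq_iff, k1]
    · show (k⁻¹ * g) • b.1 = d.1
      rw [mul_smul, g2, inv_smul_eq_iff, k2]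
  obtain ⟨z, hz⟩ : ∃ z : Cfsg.suzukiOvoid F m, z ≠ Cfsg.Lib.Suz.pI m ∧ z ≠ Cfsg.Lib.Suz.pO m := by
    by_contra hc
    push Not at hc
    have := Fintype.ofFinite (Cfsg.suzukiOvoid F m)
    classical
    have h1 : (Finset.univ : Finset (Cfsg.suzukiOvoid F m)) ⊆ {Cfsg.Lib.Suz.pI m, Cfsg.Lib.Suz.pO m} := by
      intro x _
      rw [Finset.mem_insert, Finset.mem_singleton]
      exact or_iff_not_imp_left.2 (hc x)
    have h3 := (Finset.card_le_card h1).trans Finset.card_le_two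
    rw [Finset.card_univ, Cfsg.Lib.Suz.card_ovoid' Q] at h3
    have : 2 ≤ 2 ^ (2 * m + 1) := Nat.le_self_pow (by omega) 2
    nlinarith
  obtain ⟨P, hB, hN, -⟩ := Cfsg.Lib.BN.exists_of_twoTransitive h2 (x := Cfsg.Lib.Suz.pI m) (y := Cfsg.Lib.Suz.pO m)
    (z := z) Cfsg.Lib.Suz.pI_ne_pO hz.2.symm hz.1.symm
  refine Rigid.of_split_self (P := P) (U := Cfsg.Lib.Suz.uSub Q) ⟨Nat.prime_two, ?_, ?_, ?_, ?_, ?_⟩
  · rw [hB]; exact Cfsg.Lib.Suz.uSub_le Q
  · intro b hb u hu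
    have hbn : b ∈ Subgroup.normalizer (Cfsg.Lib.Suz.uSub Q : Set (Cfsg.Sz F m)) := by
      rw [Cfsg.Lib.Suz.normalizer_uSub Q, ← Cfsg.Lib.Suz.mem_stab_pI Q, ← hB]; exact hb
    exact (Subgroup.mem_normalizer_iff.1 hbn u).1 hu
  · intro b hb
    rw [hB, Cfsg.Lib.Suz.mem_stab_pI Q] at hb
    obtain ⟨a, c, k, e⟩ := Cfsg.Lib.Suz.stab_inf Q b.2 hb
    refine ⟨_, Cfsg.Lib.Suz.uu_mem Q a c, Cfsg.Lib.Suz.hI Q k, ?_, Subtype.ext e⟩
    have hI : Cfsg.Lib.Suz.hI Q k • (Cfsg.Lib.Suz.pI m : Cfsg.suzukiOvoid F m) = Cfsg.Lib.Suz.pI m :=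
      Cfsg.Lib.Suz.hI_stab Q k
    have hO : Cfsg.Lib.Suz.hI Q k • (Cfsg.Lib.Suz.pO m : Cfsg.suzukiOvoid F m) = Cfsg.Lib.Suz.pO m := by
      rcases eq_or_ne k 1 with rfl | hk
      · rw [show Cfsg.Lib.Suz.hI Q (1 : Fˣ) = 1 from map_one (Cfsg.Lib.Suz.hHom Q), one_smul]
      · exact Subtype.ext ((Cfsg.Lib.Suz.hI_fix Q hk (Cfsg.Lib.Suz.pt_mem m 0 0)).2 (Or.inr rfl))
    rw [hB, hN, Subgroup.mem_inf, MulAction.mem_stabilizer_iff, MulAction.mem_stabilizer_iff,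
      Set.smul_set_insert, Set.smul_set_singleton, hI, hO]
    exact ⟨rfl, rfl⟩
  · exact IsPGroup.of_card (n := (2 * m + 1) * 2) (by rw [Cfsg.Lib.Suz.card_uSub, ← pow_mul])
  · intro h
    have h1 : P.B ⊓ P.N ≤ Cfsg.Lib.OddChar.Zassenhaus.stab₂ (Cfsg.Sz F m)
        (Cfsg.Lib.Suz.pI m : Cfsg.suzukiOvoid F m) (Cfsg.Lib.Suz.pO m) := by
      intro g hg
      rw [hB, hN, Subgroup.mem_inf, MulAction.mem_stabilizer_iff, MulAction.mem_stabilizer_iff,
        Set.smul_set_insert, Set.smul_set_singleton] at hg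
      refine Subgroup.mem_inf.2 ⟨hg.1, ?_⟩
      rcases Set.pair_eq_pair_iff.1 hg.2 with h' | h'
      · exact h'.2
      · exact absurd (hg.1.symm.trans h'.1) Cfsg.Lib.Suz.pI_ne_pO
    have h2 := h.trans (Subgroup.card_dvd_of_le h1)
    rw [Cfsg.Lib.Suz.card_two_point Q] at h2
    have h3 := Nat.dvd_sub (dvd_pow_self 2 (by omega : 2 * m + 1 ≠ 0)) h2
    rw [Nat.sub_sub_self (Nat.one_le_pow _ _ (by omega))] at h3
    omega

theorem main {G : Type*} [Group G] (p : ℕ) [Fact p.Prime] (hG : Cfsg.IsLieTypeChar p G) : Rigid p G := by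
  have hp : p.Prime := Fact.out
  rcases hG with h | h | h | h | h | h | h | h | ⟨rfl, h⟩ | ⟨rfl, h⟩ | ⟨rfl, h⟩
  · obtain ⟨F, _, _, _, n, hn, -, ⟨e⟩⟩ := h
    exact (Rigid.of_split_center (Cfsg.Lib.SLBN.split (n := n) (F := F) p)).of_equiv hp e
  · obtain ⟨F, _, _, _, m, hm, -, ⟨e⟩⟩ := h
    exact (Cfsg.Lib.PolarBN.rigid_psp p m (by omega)).of_equiv hp e
  · obtain ⟨F, _, _, _, n, q, hF, hn, -, ⟨e⟩⟩ := h
    exact (Cfsg.Lib.PolarBN.rigid_psu p (by omega) hF).of_equiv hp e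
  · obtain ⟨F, _, _, _, m, hm, hodd, ⟨e⟩⟩ := h
    exact (Cfsg.Lib.PolarBN.rigid_omega_odd p hodd (by omega)).of_equiv hp e
  · obtain ⟨F, _, _, _, m, hm, ⟨e⟩⟩ := h
    exact (Cfsg.Lib.PolarBN.rigid_omega_plus p (by omega)).of_equiv hp e
  · obtain ⟨F, _, _, _, m, a, b, hm, hab, ⟨e⟩⟩ := h
    exact (Cfsg.Lib.PolarBN.rigid_omega_minus p (by omega) hab).of_equiv hp e
  · obtain ⟨F, _, _, _, h⟩ := h
    have hc : ∀ D ∈ [chevG2, chevB2, chevD4, chevF4, chevE6, chevE7, chevE8],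
        Nonempty (G ≃* ↥(D.group F)) → Rigid p G := fun D hD ⟨e⟩ => by
      obtain ⟨P, U, hd⟩ := exists_chevData (F := F) p D hD
      exact Rigid.of_equiv hp e (Rigid.of_split_self hd.split)
    rcases h with ⟨-, e⟩ | e | e | e | e <;> exact hc _ (by simp) e
  · obtain ⟨K, _, _, _, q, hq, h⟩ := h
    rcases h with ⟨hK, ⟨e⟩⟩ | ⟨hK, ⟨e⟩⟩
    exacts [(rigid_twE6 p hq hK).of_equiv hp e, (rigid_twD4 p hq hK).of_equiv hp e]
  · obtain ⟨K, _, _, m, hm, hK, ⟨e⟩⟩ := h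
    exact (rigid_suz hm hK).of_equiv hp e
  · obtain ⟨K, _, _, m, hm, hK, ⟨e⟩⟩ := h
    have : CharP K 2 := charP_of_card_eq_prime_pow (f := 2 * m + 1) hK
    exact (rigid_2F4 2 hK).of_equiv hp e
  · obtain ⟨K, _, _, m, hm, hK, ⟨e⟩⟩ := h
    have := Cfsg.Lib.Chev.Ree.charP_three hK
    exact (rigid_2G2 3 hK).of_equiv hp e

end Cfsg.Lib.Known.SylFix
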