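import Cfsg.Agent.Steinberg.Vanish

/-!
# Coprime automorphisms fixing a Sylow subgroup of the characteristic

In a simple group covered by a group with a split Tits system, the identity is the only automorphism of order
prime to `p` that centralises a Sylow `p`-subgroup.
-/

set_option autoImplicit false

namespace Cfsg.Lib.Known.SylFix

open Cfsg.Lib.BN Cfsg.Lib.Steinberg

universe u v

variable {H : Type u} [Group H] [Finite H] {G : Type v} [Group G] [Finite G]
variable {P : Cfsg.BNPair H} {U : Subgroup H} {p : ℕ} {f : H →* G} {α : MulAut G}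

/-- The automorphism fixes the flag given by `g`. -/
def Fx (P : Cfsg.BNPair H) (f : H →* G) (α : MulAut G) (g : H) : Prop := (f g)⁻¹ * α (f g) ∈ P.B.map f

theorem map_mem_iff (hker : f.ker ≤ P.B) {g : H} : f g ∈ P.B.map f ↔ g ∈ P.B := by
  refine ⟨fun h => ?_, Subgroup.mem_map_of_mem f⟩
  obtain ⟨b, hb, e⟩ := Subgroup.mem_map.1 h
  have h1 : b⁻¹ * g ∈ f.ker := by simp [MonoidHom.mem_ker, e]
  simpa using mul_mem hb (hker h1)

theorem map_aut_mem (S : Split P U p) (hf : Function.Surjective f) (hker : f.ker ≤ P.B)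
    (hfix : ∀ u ∈ U, α (f u) = f u) {x : G} (hx : x ∈ P.B.map f) : α x ∈ P.B.map f := by
  obtain ⟨b, hb, rfl⟩ := Subgroup.mem_map.1 hx
  obtain ⟨u, hu, h, hh, rfl⟩ := S.decomp b hb
  rw [map_mul, map_mul, hfix u hu]
  refine mul_mem (Subgroup.mem_map_of_mem f (S.le hu)) ?_
  obtain ⟨y, hy⟩ := hf ((f h)⁻¹ * α (f h))
  have hcomm : ∀ v ∈ U, f (y * v * y⁻¹) = f v := fun v hv => by
    have hv' : h * v * h⁻¹ ∈ U := S.normal h hh.1 v hv
    have e1 := hfix _ hv'
    rw [map_mul, map_mul, map_mul, map_mul, map_inv, map_inv, hfix v hv] at e1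
    rw [map_mul, map_mul, map_inv, hy, show (f h)⁻¹ * α (f h) * f v * ((f h)⁻¹ * α (f h))⁻¹ =
      (f h)⁻¹ * (α (f h) * f v * (α (f h))⁻¹) * f h by group, e1]
    group
  have hyB : y ∈ P.B := by
    have h1 := eq_one_of_fixed_by_U S (y := y) fun v hv => ?_
    · simpa using inv_mem (mk_eq_mk.1 h1)
    · refine (map_mem_iff hker).1 ⟨v, S.le hv, ?_⟩
      have := hcomm v hv
      rw [map_mul, map_mul, map_inv] at this ⊢
      calc f v = (f y)⁻¹ * (f y * f v * (f y)⁻¹) * f y := by group
        _ = _ := by rw [this]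
  have e : α (f h) = f h * f y := by rw [hy, mul_inv_cancel_left]
  rw [e]
  exact mul_mem (Subgroup.mem_map_of_mem f hh.1) (Subgroup.mem_map_of_mem f hyB)

theorem aut_mem_iff (hB : ∀ x ∈ P.B.map f, α x ∈ P.B.map f) {x : G} : α x ∈ P.B.map f ↔ x ∈ P.B.map f := by
  refine ⟨fun h => ?_, hB x⟩
  have hinj : Function.Injective fun y : P.B.map f => (⟨α y.1, hB _ y.2⟩ : P.B.map f) := fun a b e =>
    Subtype.ext (α.injective (congrArg Subtype.val e))
  obtain ⟨y, hy⟩ := (Finite.injective_iff_surjective.1 hinj) ⟨α x, h⟩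
  have := α.injective (congrArg Subtype.val hy)
  exact this ▸ y.2

theorem Fx.mul_right (hB : ∀ x ∈ P.B.map f, α x ∈ P.B.map f) {g b : H} (hg : Fx P f α g) (hb : b ∈ P.B) :
    Fx P f α (g * b) := by
  have hb' := Subgroup.mem_map_of_mem f hb
  rw [Fx, map_mul, map_mul, mul_inv_rev, show (f b)⁻¹ * (f g)⁻¹ * (α (f g) * α (f b)) =
    (f b)⁻¹ * ((f g)⁻¹ * α (f g)) * α (f b) by group]
  exact mul_mem (mul_mem (inv_mem hb') hg) (hB _ hb')

theorem Fx.of_cell (S : Split P U p) (hfix : ∀ u ∈ U, α (f u) = f u) (hB : ∀ x ∈ P.B.map f, α x ∈ P.B.map f)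
    {n y : H} (hn : n ∈ P.N) (hFn : Fx P f α n) (hy : y ∈ dc P n) : Fx P f α y := by
  obtain ⟨a, ha, e⟩ := S.cell_decomp hn hy
  have h1 : Fx P f α (a * n) := by
    rw [Fx, map_mul, map_mul, hfix a ha, show (f a * f n)⁻¹ * (f a * α (f n)) = (f n)⁻¹ * α (f n) by group]
    exact hFn
  have := h1.mul_right hB (inv_mem (mk_eq_mk.1 e))
  simpa [mul_assoc] using this

theorem mul_dc {k s y : H} (hs : s ∈ P.S) (hk : k ∈ P.N) (hlt : len P k < len P (k * s)) (hy : y ∈ dc P s) :
    k * y ∈ dc P (k * s) := by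
  obtain ⟨u, hu, w, hw, rfl⟩ := mem_dc.1 hy
  have h1 := mul_smem_dc hs hk hlt (by simpa using mul_mem_dc (one_mem _) hu (self_mem_dc (P := P) k))
  simpa [mul_assoc] using mul_mem_dc (one_mem _) hw h1

theorem rad_card_lt (S : Split P U p) {k s : H} (hk : k ∈ P.N) (hs : s ∈ P.S)
    (hlt : len P k < len P (k * s)) : Nat.card (rad P U (k * s)) < Nat.card (rad P U k) := by
  have hsN := P.subset hs
  have hle : rad P U (k * s) ≤ rad P U k := fun u hu => by
    obtain ⟨huU, h⟩ := mem_rad.1 hu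
    refine mem_rad.2 ⟨huU, fix_prefix hk hsN ?_ (S.le huU) h⟩
    have h1 : len P s ≤ 1 := len_le (l := [s]) (isWord_cons.2 ⟨hs, isWord_nil⟩) (by simp [Cong.refl])
    have h2 := len_mul_le hk hsN
    omega
  have h2 : rad P U k ≠ rad P U (k * s) := by
    intro heq
    obtain ⟨b, hb, hbs⟩ : ∃ b ∈ P.B, s⁻¹ * b * s ∉ P.B := by
      by_contra hc
      push Not at hc
      apply P.conj_ne s hs
      ext x
      constructor
      · rintro ⟨b, hb, rfl⟩
        have := mul_mem (P.sq_mem s hs) (hc b hb)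
        show s * b * s ∈ P.B
        convert this using 1
        group
      · intro hx
        exact ⟨(s⁻¹ * x * s) * (s * s)⁻¹, mul_mem (hc x hx) (inv_mem (P.sq_mem s hs)), by group⟩
    have hdc : k * b * s ∈ dc P (k * s) := by
      exact mul_smem_dc hs hk hlt (by simpa using mul_mem_dc (one_mem _) hb (self_mem_dc (P := P) k))
    obtain ⟨a, ha, e⟩ := S.cell_decomp (mul_mem hk hsN) hdc
    set c := (k * b * s)⁻¹ * (a * (k * s)) with hc
    have hcB : c ∈ P.B := mk_eq_mk.1 e
    have hx : k⁻¹ * a * k = b * (s * c * s⁻¹) := by rw [hc]; group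
    by_cases hak : k⁻¹ * a * k ∈ P.B
    · have ha' : a ∈ rad P U (k * s) := heq ▸ mem_rad.2 ⟨ha, hak⟩
      have h3 := (mem_rad.1 ha').2
      refine hbs ?_
      have : s⁻¹ * b * s = (k * s)⁻¹ * a * (k * s) * c⁻¹ := by rw [hc]; group
      rw [this]
      exact mul_mem h3 (inv_mem hcB)
    · have hscs : s * c * s⁻¹ ∈ dc P s ∪ dc P 1 := by
        have h4 : s * (c * (s * s)⁻¹) * s ∈ _ :=
          smul_mem hs hsN (mul_mem hcB (inv_mem (P.sq_mem s hs)))
        rw [show s * (c * (s * s)⁻¹) * s = s * c * s⁻¹ by group, (cong_mul_self hs).dc_eq] at h4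
        exact h4.symm
      rcases hscs with h4 | h4
      · have h5 : a * k ∈ dc P (k * s) := by
          have : a * k = k * (b * (s * c * s⁻¹)) := by rw [← hx]; group
          rw [this]
          exact mul_dc hs hk hlt (by simpa using mul_mem_dc hb (one_mem _) h4)
        have h6 : a * k ∈ dc P k := by simpa using mul_mem_dc (S.le ha) (one_mem _) (self_mem_dc (P := P) k)
        have := len_congr (mul_mem hk hsN) (cong_of_dc_eq (mul_mem hk hsN) hk
          ((dc_eq_of_mem h5).symm.trans (dc_eq_of_mem h6)))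
        omega
      · obtain ⟨x, hx', y, hy, e'⟩ := mem_dc.1 h4
        exact hak (by rw [hx, e']; exact mul_mem hb (mul_mem (mul_mem hx' (one_mem _)) hy))
  exact lt_of_le_of_ne (Subgroup.card_le_of_le hle) fun h => h2 (Subgroup.eq_of_le_of_card_ge hle h.ge).symm

theorem rad_congr {k n : H} (h : Cong P k n) : rad P U k = rad P U n :=
  le_antisymm (fun _ hu => mem_rad.2 ⟨(mem_rad.1 hu).1, conj_mem_of_cong h (mem_rad.1 hu).2⟩)
    fun _ hu => mem_rad.2 ⟨(mem_rad.1 hu).1, conj_mem_of_cong h.symm (mem_rad.1 hu).2⟩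

theorem iterate_cell (hB : ∀ x ∈ P.B.map f, α x ∈ P.B.map f) (hfix : ∀ u ∈ U, α (f u) = f u) {n a : H}
    (ha : a ∈ U) (h : (f (a * n))⁻¹ * α (f n) ∈ P.B.map f) :
    ∀ j : ℕ, (f (a ^ j * n))⁻¹ * (α ^ j) (f n) ∈ P.B.map f := by
  intro j
  induction j with
  | zero => simp
  | succ j ih =>
    have h1 := hB _ ih
    rw [map_mul, map_inv, map_mul, map_mul, hfix _ (pow_mem ha j)] at h1
    rw [pow_succ' α, MulAut.mul_apply]
    have e : (f (a ^ (j + 1) * n))⁻¹ * α ((α ^ j) (f n)) =
        ((f (a * n))⁻¹ * α (f n)) * ((f (a ^ j) * α (f n))⁻¹ * α ((α ^ j) (f n))) := by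
      rw [pow_succ, map_mul, map_mul, map_mul]
      group
    rw [e]
    exact mul_mem h h1

theorem Fx.top (S : Split P U p) (hf : Function.Surjective f) (hker : f.ker ≤ P.B)
    (hfix : ∀ u ∈ U, α (f u) = f u) (hB : ∀ x ∈ P.B.map f, α x ∈ P.B.map f) (hα : ¬ p ∣ orderOf α)
    {n : H} (hn : n ∈ Subgroup.closure P.S) (htop : Top P P.S n) : Fx P f α n := by
  have hnN := closure_le_N (subset_refl _) hn
  obtain ⟨m, hm⟩ := hf (α (f n))
  have hrad : rad P U m = rad P U n := by
    ext u
    simp only [mem_rad, and_congr_right_iff]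
    intro hu
    rw [← map_mem_iff (g := m⁻¹ * u * m) hker, ← map_mem_iff (g := n⁻¹ * u * n) hker,
      ← aut_mem_iff hB (x := f (n⁻¹ * u * n))]
    simp only [map_mul, map_inv, hm, hfix u hu]
  obtain ⟨k, hk, hmk⟩ := bruhat P m
  obtain ⟨a, ha, e⟩ := S.cell_decomp hk hmk
  have hc := mk_eq_mk.1 e
  have hcard : Nat.card (rad P U k) = Nat.card (rad P U n) := by
    rw [← hrad]
    refine Nat.card_congr ((MulAut.conj a).toEquiv.subtypeEquiv fun u => ?_)
    simp only [mem_rad, MulEquiv.toEquiv_eq_coe, MulEquiv.coe_toEquiv, MulAut.conj_apply]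
    constructor
    · rintro ⟨h1, h2⟩
      refine ⟨mul_mem (mul_mem ha h1) (inv_mem ha), ?_⟩
      have := mul_mem (mul_mem hc h2) (inv_mem hc)
      convert this using 1
      group
    · rintro ⟨h1, h2⟩
      refine ⟨by simpa [mul_assoc] using mul_mem (mul_mem (inv_mem ha) h1) ha, ?_⟩
      have := mul_mem (mul_mem (inv_mem hc) h2) hc
      convert this using 1
      group
  have hkn : Cong P n k := by
    obtain ⟨k', hk', hkk⟩ := exists_closure_cong hk
    refine (top_unique (subset_refl _) hn hk' htop fun s hs => ?_).trans hkk.symm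
    have hk'N := closure_le_N (subset_refl _) hk'
    rcases lt_or_gt_of_ne (len_mul_right_ne hs hk'N) with hlt | hlt
    · exact hlt
    · exfalso
      have h1 := rad_card_lt S (U := U) hk'N hs hlt
      have h2 : rad P U n ≤ rad P U (k' * s) := fun u hu => by
        obtain ⟨huU, h⟩ := mem_rad.1 hu
        exact mem_rad.2 ⟨huU, top_fix (subset_refl _) hn htop (mul_mem hk' (Subgroup.subset_closure hs))
          (S.le huU) h⟩
      rw [← rad_congr hkk, hcard] at h1
      exact absurd (Subgroup.card_le_of_le h2) (not_le.2 h1)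
  have h0 : (f (a * n))⁻¹ * α (f n) ∈ P.B.map f := by
    rw [← hm, ← map_inv, ← map_mul, map_mem_iff hker]
    have h1 : (a * n)⁻¹ * (a * k) ∈ P.B := by
      have : (a * n)⁻¹ * (a * k) = n⁻¹ * k := by group
      rw [this]; exact hkn.1
    have := mul_mem h1 (inv_mem hc)
    convert this using 1
    group
  have h1 := iterate_cell hB hfix ha h0 (orderOf α)
  rw [pow_orderOf_eq_one, MulAut.one_apply, ← map_inv, ← map_mul, map_mem_iff hker] at h1
  have har : a ^ orderOf α ∈ rad P U n := mem_rad.2 ⟨pow_mem ha _, by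
    have := inv_mem h1
    convert this using 1
    group⟩
  have haR : a ∈ rad P U n := by
    obtain ⟨e', he⟩ := exists_pow_of_mem S ha
    obtain ⟨j, hj⟩ := exists_pow_eq_self_of_coprime (n := orderOf α) (x := a)
      (by rw [he]; exact ((S.prime.coprime_iff_not_dvd.2 hα).pow_left e').symm)
    exact hj ▸ pow_mem har j
  have h2 := mul_mem (Subgroup.mem_map_of_mem f (mem_rad.1 haR).2) h0
  rw [Fx]
  convert h2 using 1
  rw [map_mul, map_mul, map_mul, map_inv]
  group

theorem Fx.all (S : Split P U p) (hf : Function.Surjective f) (hker : f.ker ≤ P.B)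
    (hfix : ∀ u ∈ U, α (f u) = f u) (hB : ∀ x ∈ P.B.map f, α x ∈ P.B.map f) (hα : ¬ p ∣ orderOf α) (g : H) :
    Fx P f α g := by
  obtain ⟨n, hn, htop⟩ := exists_top (P := P) (subset_refl P.S)
  have hnN := closure_le_N (subset_refl _) hn
  have hFn := Fx.top S hf hker hfix hB hα hn htop
  have hbound : ∀ k ∈ P.N, len P k ≤ len P n := fun k hk => by
    obtain ⟨k', hk', hkk⟩ := exists_closure_cong hk
    have h1 := len_mul_of_top (subset_refl P.S) hnN htop hk'
    rw [← len_congr hk hkk] at h1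
    omega
  suffices key : ∀ d, ∀ k ∈ P.N, len P n - len P k = d → Fx P f α k by
    obtain ⟨k, hk, hgk⟩ := bruhat P g
    exact Fx.of_cell S hfix hB hk (key _ k hk rfl) hgk
  intro d
  induction d using Nat.strong_induction_on with
  | _ d ih =>
    intro k hk hd
    by_cases hkt : Top P P.S k
    · obtain ⟨k', hk', hkk⟩ := exists_closure_cong hk
      have := (top_unique (subset_refl _) hn hk' htop (top_congr (subset_refl _) hk hkk hkt)).trans hkk.symm
      exact Fx.of_cell S hfix hB hnN hFn this.symm.mem_dc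
    obtain ⟨s, hs, hlt⟩ : ∃ s ∈ P.S, len P k < len P (k * s) := by
      simp only [Cfsg.Lib.Steinberg.Top, not_forall, not_lt] at hkt
      obtain ⟨s, hs, h⟩ := hkt
      exact ⟨s, hs, lt_of_le_of_ne h (len_mul_right_ne hs hk).symm⟩
    have hksN := mul_mem hk (P.subset hs)
    have hks : ∀ y ∈ dc P (k * s), Fx P f α y := fun y hy =>
      Fx.of_cell S hfix hB hksN (ih _ (by have := hbound _ hksN; omega) _ hksN rfl) hy
    set Ps := P.parabolic {s} with hPs
    have hBPs : P.B ≤ Ps := le_sup_left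
    have hsPs : s ∈ Ps := smem_parabolic rfl
    have hcases : ∀ y ∈ Ps, y ∈ P.B ∨ y ∈ dc P s := by
      intro y hy
      obtain ⟨v, hv, hyv⟩ := (parabolic_mem_iff P (Set.singleton_subset_iff.2 hs)).1 hy
      rw [← Subgroup.zpowers_eq_closure] at hv
      obtain ⟨j, rfl⟩ := Subgroup.mem_zpowers_iff.1 hv
      have h2 : ∀ i : ℤ, (s * s) ^ i ∈ P.B := fun i => zpow_mem (P.sq_mem s hs) i
      rcases Int.even_or_odd' j with ⟨i, rfl | rfl⟩
      · left
        obtain ⟨x, hx, z, hz, e⟩ := mem_dc.1 hyv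
        rw [e]
        refine mul_mem (mul_mem hx ?_) hz
        rw [zpow_mul, zpow_two]
        exact h2 i
      · right
        have : dc P (s ^ (2 * i + 1)) = dc P s := dc_eq_of_mem (by
          rw [zpow_add_one, zpow_mul, zpow_two]
          simpa using mul_mem_dc (h2 i) (one_mem _) (self_mem_dc (P := P) s))
        rwa [this] at hyv
    obtain ⟨b, hb, hbs⟩ : ∃ b ∈ P.B, s⁻¹ * b * s ∉ P.B := by
      by_contra hc
      push Not at hc
      apply P.conj_ne s hs
      ext x
      constructor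
      · rintro ⟨b, hb, rfl⟩
        have := mul_mem (P.sq_mem s hs) (hc b hb)
        show s * b * s ∈ P.B
        convert this using 1
        group
      · intro hx
        exact ⟨(s⁻¹ * x * s) * (s * s)⁻¹, mul_mem (hc x hx) (inv_mem (P.sq_mem s hs)), by group⟩
    set x := s⁻¹ * b * s with hx
    have hxPs : x ∈ Ps := mul_mem (mul_mem (inv_mem hsPs) (hBPs hb)) hsPs
    have hg2 : k * b * s ∈ dc P (k * s) := by
      exact mul_smem_dc hs hk hlt (by simpa using mul_mem_dc (one_mem _) hb (self_mem_dc (P := P) k))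
    have hF1 := hks _ (self_mem_dc _)
    have hF2 := hks _ hg2
    have hαx : α (f x) ∈ Ps.map f := by
      have e : α (f x) = ((f (k * s))⁻¹ * α (f (k * s)))⁻¹ * f x * ((f (k * b * s))⁻¹ * α (f (k * b * s))) := by
        rw [hx]; simp only [map_mul, map_inv]; group
      rw [e]
      exact mul_mem (mul_mem (inv_mem (Subgroup.map_mono hBPs hF1)) (Subgroup.mem_map_of_mem f hxPs))
        (Subgroup.map_mono hBPs hF2)
    have hαs : α (f s) ∈ Ps.map f := by
      rcases hcases x hxPs with h | h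
      · exact absurd h hbs
      · obtain ⟨u, hu, w, hw, e⟩ := mem_dc.1 h
        have hB' : ∀ z ∈ P.B, α (f z) ∈ Ps.map f := fun z hz =>
          Subgroup.map_mono hBPs (hB _ (Subgroup.mem_map_of_mem f hz))
        have e' : α (f s) = (α (f u))⁻¹ * α (f x) * (α (f w))⁻¹ := by
          rw [e]; simp only [map_mul]; group
        rw [e']
        exact mul_mem (mul_mem (inv_mem (hB' u hu)) hαx) (inv_mem (hB' w hw))
    obtain ⟨q, hq, hqe⟩ := Subgroup.mem_map.1 (mul_mem (Subgroup.map_mono hBPs hF1) (inv_mem hαs))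
    set m := k * s * q with hm
    have hαk : α (f k) = f m := by
      rw [hm, map_mul f (k * s), hqe]
      simp only [map_mul]
      group
    rcases hcases (s * q) (mul_mem hsPs hq) with h | h
    · rw [Fx, hαk, hm, ← map_inv, ← map_mul, map_mem_iff hker]
      simpa [mul_assoc] using h
    · exfalso
      have hmd : m ∈ dc P (k * s) := by
        rw [hm, mul_assoc]; exact mul_dc hs hk hlt h
      have h3 := hks m hmd
      rw [Fx, ← hαk, ← map_inv α, ← map_mul α, aut_mem_iff hB, hαk, ← map_inv, ← map_mul,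
        map_mem_iff hker] at h3
      have h4 : s * q ∈ P.B := by simpa [hm, mul_assoc] using h3
      rw [hm] at hmd
      have h5 : m ∈ dc P k := by
        rw [hm]; simpa [mul_assoc] using mul_mem_dc (one_mem _) h4 (self_mem_dc (P := P) k)
      have := len_congr hksN (cong_of_dc_eq hksN hk ((dc_eq_of_mem hmd).symm.trans (dc_eq_of_mem h5)))
      omega

/-- The main lemma. -/
theorem eq_one (S : Split P U p) [IsSimpleGroup G] (hp : p ∣ Nat.card G) (hf : Function.Surjective f)
    (hker : f.ker ≤ P.B) (α : MulAut G) (hα : ¬ p ∣ orderOf α) (W : Sylow p G)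
    (hfix : ∀ x ∈ (W : Subgroup G), α x = x) : α = 1 := by
  haveI : Fact p.Prime := ⟨S.prime⟩
  have hsyl : IsPGroup p (U.map f) := S.isPGroup.map f
  obtain ⟨W', hW'⟩ := hsyl.exists_le_sylow
  have hWU : (W' : Subgroup G) ≤ U.map f := by
    have h1 : Nat.card H = Nat.card f.ker * Nat.card G := by
      rw [← Nat.card_congr (QuotientGroup.quotientKerEquivOfSurjective f hf).toEquiv, mul_comm,
        ← Subgroup.card_eq_card_quotient_mul_card_subgroup]
    have h2 : Nat.card U = Nat.card (U.map f) * Nat.card ↥(U ⊓ f.ker) := by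
      rw [← Nat.card_congr (Subgroup.subgroupOfEquivOfLe (inf_le_left : U ⊓ f.ker ≤ U)).toEquiv,
        Subgroup.inf_subgroupOf_left, ← MonoidHom.ker_domRestrict, ← MonoidHom.domRestrict_range,
        ← Nat.card_congr (QuotientGroup.quotientKerEquivRange (f.domRestrict U)).toEquiv,
        ← Subgroup.card_eq_card_quotient_mul_card_subgroup]
    have h3 : p ^ (Nat.card G).factorization p * p ^ (Nat.card f.ker).factorization p = Nat.card U := by
      rw [← pow_add, add_comm, ← Finsupp.add_apply, ← Nat.factorization_mul Nat.card_pos.ne' Nat.card_pos.ne',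
        ← h1, factorization_eq S]
    obtain ⟨j, hj⟩ := IsPGroup.iff_card.1 (S.isPGroup.to_le (inf_le_left : U ⊓ f.ker ≤ U))
    have h4 : Nat.card ↥(U ⊓ f.ker) ≤ p ^ (Nat.card f.ker).factorization p := by
      rw [hj]
      exact Nat.le_of_dvd (pow_pos S.prime.pos _) (pow_dvd_pow p
        ((S.prime.pow_dvd_iff_le_factorization Nat.card_pos.ne').1 (hj ▸ Subgroup.card_dvd_of_le inf_le_right)))
    refine (Subgroup.eq_of_le_of_card_ge hW' ?_).ge
    have h5 : Nat.card W' * p ^ (Nat.card f.ker).factorization p ≤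
        Nat.card (U.map f) * p ^ (Nat.card f.ker).factorization p := by
      rw [W'.card_eq_multiplicity, h3, h2]
      exact Nat.mul_le_mul_left _ h4
    exact Nat.le_of_mul_le_mul_right h5 (pow_pos S.prime.pos _)
  obtain ⟨g, hg⟩ := MulAction.exists_smul_eq G W W'
  set c : MulAut G := MulAut.conj g with hc
  suffices hβ : c * α * c⁻¹ = 1 by
    have := mul_inv_eq_one.1 hβ
    exact mul_eq_left.1 this
  set β : MulAut G := c * α * c⁻¹ with hβ
  have hfixU : ∀ u ∈ U, β (f u) = f u := fun u hu => by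
    have h1 : f u ∈ ((g • W : Sylow p G) : Subgroup G) := hg.symm ▸ hW' (Subgroup.mem_map_of_mem f hu)
    rw [Sylow.coe_subgroup_smul, Subgroup.mem_pointwise_smul_iff_inv_smul_mem] at h1
    have h2 : c⁻¹ (f u) ∈ (W : Subgroup G) := h1
    rw [hβ, MulAut.mul_apply, MulAut.mul_apply, hfix _ h2, MulAut.apply_inv_self]
  have hord : ¬ p ∣ orderOf β := by
    rw [show orderOf β = orderOf α from orderOf_injective (MulAut.conj c).toMonoidHom (MulAut.conj c).injective α]
    exact hα
  have hB : ∀ x ∈ P.B.map f, β x ∈ P.B.map f := fun x hx => map_aut_mem S hf hker hfixU hx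
  have hall : ∀ x, x⁻¹ * β x ∈ P.B.map f := fun x => by
    obtain ⟨y, rfl⟩ := hf x
    exact Fx.all S hf hker hfixU hB hord y
  have hcore : ∀ x, x⁻¹ * β x ∈ (P.B.map f).normalCore := fun x y => by
    have h1 := mul_mem (hall (x * y⁻¹)) (inv_mem (hall y⁻¹))
    convert h1 using 1
    simp only [map_mul, map_inv]
    group
  rcases (P.B.map f).normalCore_normal.eq_bot_or_eq_top with h | h
  · refine MulEquiv.ext fun x => ?_
    have := hcore x
    rw [h, Subgroup.mem_bot, inv_mul_eq_one] at this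
    exact this.symm
  · have hBtop : P.B.map f = ⊤ := eq_top_iff.2 (h ▸ (P.B.map f).normalCore_le)
    have hn : (U.map f).Normal := ⟨fun x hx y => by
      obtain ⟨b, hb, rfl⟩ : y ∈ P.B.map f := hBtop ▸ Subgroup.mem_top y
      obtain ⟨u, hu, rfl⟩ := hx
      exact ⟨b * u * b⁻¹, S.normal b hb u hu, by simp⟩⟩
    rcases hn.eq_bot_or_eq_top with h' | h'
    · exfalso
      have hcard := W'.card_eq_multiplicity
      have : (W' : Subgroup G) = ⊥ := eq_bot_iff.2 (h' ▸ hWU)
      have h6 : Nat.card W' = 1 := by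
        show Nat.card (W' : Subgroup G) = 1
        rw [this, Subgroup.card_bot]
      rw [h6, eq_comm, Nat.pow_eq_one] at hcard
      have := S.prime.factorization_pos_of_dvd Nat.card_pos.ne' hp
      rcases hcard with h7 | h7
      · exact S.prime.ne_one h7
      · omega
    · refine MulEquiv.ext fun x => ?_
      obtain ⟨u, hu, rfl⟩ : x ∈ U.map f := h' ▸ Subgroup.mem_top x
      exact hfixU u hu

end Cfsg.Lib.Known.SylFix
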